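import Groth.Agent.Surf.K464.Curves
import Groth.Agent.Surf.K465.ProjH
import Groth.Agent.ArSurf.K479.Artin
import Groth.Agent.Dix.ContractBasic
import Groth.Agent.S10829
import Groth.Agent.CalgB.ProjField
import Groth.Agent.VarietyA.ProjMor
import Groth.Agent.VarietyB.GenLocusTensor

/-!
# Contraction of a rational curve with negative self-intersection on a smooth projective surface
-/

set_option autoImplicit false
universe u
open CategoryTheory CategoryTheory.Limits AlgebraicGeometry TopologicalSpace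

namespace K34.ContrRat

open Groth.Agent Groth.Agent.Grpsch.PicGrp Groth.Agent.Dix Groth.Agent.Dix.CastPic Groth.Agent.Dix.IdealModCartier
  Groth.Agent.Divis.EffCartier Groth.Agent.Fdesc.LocGen

section deg

variable (k : Type u) [Field k] {X : Scheme.{u}} [X.Over (Spec (CommRingCat.of k))]
  (ι : CohB1.ProjSpace 1 k ⟶ X) [IsClosedImmersion ι]

omit [X.Over (Spec (CommRingCat.of k))] in
theorem exists_iso_ker : ∃ e : CohB1.ProjSpace 1 k ≅ ι.ker.subscheme, e.hom ≫ ι.ker.subschemeι = ι :=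
  ⟨asIso ι.toImage, ι.toImage_imageι⟩

omit [X.Over (Spec (CommRingCat.of k))] in
theorem isCurve : K464.Curves.IsCurve ι.ker := by
  obtain ⟨e, he⟩ := exists_iso_ker k ι
  refine ⟨?_, ?_⟩
  · have : IsIntegral (CohB1.ProjSpace 1 k) := inferInstance
    have : Nonempty ι.ker.subscheme := ⟨e.hom (genericPoint (CohB1.ProjSpace 1 k))⟩
    exact isIntegral_of_isOpenImmersion e.inv
  · rw [← K464.Curves.dim_sub, ← e.hom.homeomorph.isHomeomorph.topologicalKrullDim_eq]
    exact_mod_cast S10829.result k 1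

theorem degOn_eq [IsProper (X ↘ Spec (CommRingCat.of k))]
    (hι : ι ≫ (X ↘ Spec (CommRingCat.of k)) = CohB1.ProjSpace.toSpec 1 k) {c : Pic X} {m : ℤ}
    (hc : pull ι c = o k m) : K464.Curves.degOn k X ι.ker c = m := by
  obtain ⟨L, hL, rfl⟩ := exists_mk c
  obtain ⟨e, he⟩ := exists_iso_ker k ι
  rw [pull_mk, o, mk_eq_iff] at hc
  obtain ⟨f⟩ := hc
  let _ := K464.Curves.overC k X ι.ker
  have hp : IsProper (CohB1.ProjSpace 1 k ↘ Spec (CommRingCat.of k)) :=
    Groth.Agent.Ega3B.ProjProper.isProper_toSpec 1 k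
  have hd : topologicalKrullDim (CohB1.ProjSpace 1 k) = 1 := by exact_mod_cast S10829.result k 1
  rw [K464.Curves.degOn_eq_deg, ← CurvesC.DegIso.deg_restrict k ι ι.ker.subschemeι hι rfl e he,
    CurvesC.DegIso.deg_congr k f, ← Dix.InterNum.curveDeg_eq k _ hd, Cast2.wp2_deg]

omit [X.Over (Spec (CommRingCat.of k))] in
theorem ker_comp_iso {Z W : Scheme.{u}} (e : Z ≅ W) (i : W ⟶ X) [QuasiCompact i] : (e.hom ≫ i).ker = i.ker := by
  refine Scheme.IdealSheafData.ext (funext fun U => ?_)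
  rw [Scheme.Hom.ker_apply, Scheme.Hom.ker_apply]
  ext a
  have h2 : ((e.hom ≫ i).app (U : X.Opens)).hom a =
      (e.hom.app (i ⁻¹ᵁ (U : X.Opens))).hom ((i.app (U : X.Opens)).hom a) := by
    rw [Scheme.Hom.comp_app]; rfl
  rw [RingHom.mem_ker, RingHom.mem_ker, h2]
  have h1 : Function.Injective (e.hom.app (i ⁻¹ᵁ (U : X.Opens))).hom :=
    (ConcreteCategory.bijective_of_isIso (e.hom.app (i ⁻¹ᵁ (U : X.Opens)))).1
  exact map_eq_zero_iff _ h1

omit [X.Over (Spec (CommRingCat.of k))] in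
theorem range_comp_iso {Z W : Scheme.{u}} (e : Z ≅ W) (i : W ⟶ X) : Set.range (e.hom ≫ i) = Set.range i := by
  ext x
  constructor
  · rintro ⟨z, rfl⟩
    exact ⟨e.hom z, rfl⟩
  · rintro ⟨w, rfl⟩
    refine ⟨e.inv w, ?_⟩
    rw [← Scheme.Hom.comp_apply, Iso.inv_hom_id_assoc]

omit [X.Over (Spec (CommRingCat.of k))] in
theorem exists_notMem (hdim : topologicalKrullDim X = 2) : ∃ x, x ∉ Set.range ι := by
  by_contra hcon
  push Not at hcon
  have h1 : IsHomeomorph ι := isHomeomorph_iff_isEmbedding_surjective.2 ⟨ι.isClosedEmbedding.isEmbedding, hcon⟩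
  have h2 := h1.topologicalKrullDim_eq
  rw [hdim, S10829.result k 1] at h2
  norm_num at h2

end deg

section ind

variable {k : Type u} [Field k] {X : Scheme.{u}} (ι : CohB1.ProjSpace 1 k ⟶ X) [IsClosedImmersion ι]
  (heff : BlowUp.IsEffCartierIdeal ι.ker)

/-- Twist induction, conormal sheaf `O(d)`. -/
theorem V1_ind {d : ℕ} (hI : pull ι (idc ι heff) = o k d) (c : Pic X) (m : ℤ) (hc : pull ι c = o k m)
    (h : V1 c) (i : ℕ) (hi : (i : ℤ) * d ≤ m + 1) : V1 (c * (idc ι heff)⁻¹ ^ i) := by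
  induction i with
  | zero => rwa [pow_zero, mul_one]
  | succ i ih =>
    have hd : (0 : ℤ) ≤ d := by positivity
    have h2 : ((i + 1 : ℕ) : ℤ) * d = i * d + d := by push_cast; ring
    refine V1_step ι heff _ (m - (i + 1 : ℕ) * d) (by linarith) ?_ ?_
    · rw [map_mul, map_pow, map_inv, hc, hI, ← o_neg, o_pow, ← o_add]
      congr 1; push_cast; ring
    · rw [pow_succ]
      have := ih (by linarith)
      rwa [mul_assoc, mul_assoc, inv_mul_cancel, mul_one]

end ind

section data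

variable (k : Type u) [Field k] {X : Scheme.{u}} [X.Over (Spec (CommRingCat.of k))]
  [IsProper (X ↘ Spec (CommRingCat.of k))]
  (ι : CohB1.ProjSpace 1 k ⟶ X) [IsClosedImmersion ι]
  (hι : ι ≫ (X ↘ Spec (CommRingCat.of k)) = CohB1.ProjSpace.toSpec 1 k)
  (heff : BlowUp.IsEffCartierIdeal ι.ker)

include hι in
/-- The invertible module which is trivial on the curve and its sections. -/
theorem exists_data {A : X.Modules} (hA : CohB1.IsAmple A) {n : ℕ} (hn : 0 < n)
    (hI : pull ι (idc ι heff) = o k n) :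
    ∃ (M : X.Modules) (t : Coh.structureModule X ⟶ M) (J : Type u) (_ : Finite J)
      (τ : J → (Coh.structureModule X ⟶ M)), Set.range ι ⊆ (CohB1.genLocus M t : Set X) ∧
      (∀ j, IsAffineOpen (CohB1.genLocus M (τ j))) ∧
      (∀ j, Disjoint (CohB1.genLocus M (τ j) : Set X) (Set.range ι)) ∧
      ∀ x, x ∉ Set.range ι → ∃ j, x ∈ CohB1.genLocus M (τ j) := by
  obtain ⟨H, hH, J, hJ, σ, hV, -, hσa, hσc⟩ := K479.Artin.exists_H (X ↘ Spec (CommRingCat.of k)) hA hA.1
  obtain ⟨b, hb⟩ := exists_o k (pull ι (mk H hH.1))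
  have hb0 : 0 < b := by
    have h1 := K464.Curves.degOn_pos_of_ample k (isCurve k ι) hH.1 hH
    rwa [degOn_eq k ι hι hb] at h1
  obtain ⟨a, rfl⟩ : ∃ a : ℕ, b = a := ⟨b.toNat, (Int.toNat_of_nonneg hb0.le).symm⟩
  have ha0 : 0 < a := by exact_mod_cast hb0
  obtain ⟨s, hs⟩ := Cast5.exists_section ι heff
  have hinv := (isInvertible_idealMod_iff ι.ker).2 heff
  have hDu : PicF.IsInvertible (dual (ClSub.idealMod ι.ker)) := isInvertible_dual hinv
  have hDc : mk (dual (ClSub.idealMod ι.ker)) hDu = (idc ι heff)⁻¹ := (inv_mk hinv).symm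
  have hHn : PicF.IsInvertible (CohB1.tensorPow H n) := isInvertible_tensorPow hH.1 n
  have hDa : PicF.IsInvertible (CohB1.tensorPow (dual (ClSub.idealMod ι.ker)) a) := isInvertible_tensorPow hDu a
  let M := CohB1.tensorMod (CohB1.tensorPow H n) (CohB1.tensorPow (dual (ClSub.idealMod ι.ker)) a)
  have hM : PicF.IsInvertible M := isInvertible_tensorMod hHn hDa
  have hMc : mk M hM = mk H hH.1 ^ n * (idc ι heff)⁻¹ ^ a := by
    rw [← mk_mul_mk hHn hDa, mk_tensorPow hDu a, mk_tensorPow hH.1 n, hDc]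
  obtain ⟨t, ht⟩ := K479.Artin.exists_gen ι heff M hM (by
      obtain ⟨a', rfl⟩ : ∃ a', a = a' + 1 := ⟨a - 1, by omega⟩
      rw [hMc, pow_succ, mul_assoc, mul_assoc, inv_mul_cancel, mul_one]
      refine V1_ind ι heff hI _ (n * ((a' + 1 : ℕ) : ℤ)) ?_ (hV n hn) a' ?_
      · rw [map_pow, hb, o_pow]
      · push_cast
        nlinarith) (by
      rw [hMc, map_mul, map_pow, map_pow, map_inv, hb, hI, ← o_neg, o_pow, o_pow, ← o_add, ← o_zero k]
      congr 1
      ring)
  have hτ : ∀ j, CohB1.genLocus M (tmulHom (powHom (σ j) n) (powHom s a)) =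
      CohB1.genLocus H (σ j) ⊓ CohB1.genLocus _ s := by
    intro j
    obtain ⟨n', rfl⟩ : ∃ m, n = m + 1 := ⟨n - 1, by omega⟩
    obtain ⟨a', rfl⟩ : ∃ m, a = m + 1 := ⟨a - 1, by omega⟩
    rw [genLocus_tmulHom hHn hDa, Fdesc.LocGen.genLocus_powHom hH.1 (σ j) n',
      Fdesc.LocGen.genLocus_powHom hDu s a']
  refine ⟨M, t, J, hJ, fun j => tmulHom (powHom (σ j) n) (powHom s a), ht, ?_, ?_, ?_⟩
  · intro j
    rw [hτ]
    exact VarietyB.GenLocusTensor.isAffineOpen_inf_genLocus hDu (hσa j) s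
  · intro j
    rw [hτ, Set.disjoint_left]
    rintro x ⟨-, hx⟩
    have h1 : x ∈ (CohB1.genLocus _ s : Set X) := hx
    rw [hs] at h1
    exact h1
  · intro x hx
    have h1 : x ∈ ⨆ j, CohB1.genLocus H (σ j) := by rw [hσc]; trivial
    obtain ⟨j, hj⟩ := Opens.mem_iSup.mp h1
    refine ⟨j, ?_⟩
    rw [hτ]
    refine ⟨hj, ?_⟩
    change x ∈ (CohB1.genLocus _ s : Set X)
    rw [hs]
    exact hx

end data

section final

variable {k : Type u} [Field k]

theorem exists_closedPoint {X : Scheme.{u}} (p : X ⟶ Spec (CommRingCat.of k)) [LocallyOfFiniteType p]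
    {U : Set X} (hU : IsOpen U) (hne : U.Nonempty) : ∃ x ∈ U, IsClosed ({x} : Set X) := by
  have : JacobsonSpace X := LocallyOfFiniteType.jacobsonSpace p
  have h1 : Dense (closedPoints X) := by
    rw [dense_iff_closure_eq]; exact closure_closedPoints
  obtain ⟨x, hxU, hx⟩ := h1.exists_mem_open hU hne
  exact ⟨x, hx, hxU⟩

/-- The dimension of the target of a contraction of a closed subset to a point. -/
theorem dim_contraction {X Y : Scheme.{u}} [IsIntegral X] (p : X ⟶ Spec (CommRingCat.of k))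
    [LocallyOfFiniteType p] (g : X ⟶ Y) [Surjective g] (hg : IsClosedMap g) (y : Y) (hy : IsClosed ({y} : Set Y))
    (hiso : IsIso (g ∣_ (⟨{y}ᶜ, hy.isOpen_compl⟩ : Y.Opens))) (hne : ∃ x, g x ≠ y) {d : ℕ}
    (hdim : topologicalKrullDim X = d) : topologicalKrullDim Y = d := by
  refine le_antisymm ?_ ?_
  · rw [← hdim]
    exact DimClosed.topologicalKrullDim_le_of_isClosedMap g hg g.surjective
  · obtain ⟨x₀, hx₀⟩ := hne
    obtain ⟨x, hxU, hx⟩ := exists_closedPoint p (U := g ⁻¹' ({y}ᶜ)) (hy.isOpen_compl.preimage g.continuous) ⟨x₀, hx₀⟩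
    obtain ⟨a, t, n, h1, -, h3, h4, h5⟩ := CycA.IntLocal.exists_dims p x
    have h6 : topologicalKrullDim (closure {x} : Set X) ≤ 0 := by
      rw [hx.closure_eq]
      exact topologicalKrullDim_zero_of_discreteTopology _
    have ht : t = 0 := by
      rw [h3] at h6
      have h7 : t ≤ 0 := by exact_mod_cast h6
      omega
    have hn : n = d := by
      rw [hdim] at h4
      exact_mod_cast h4.symm
    have ha : a = d := by omega
    rw [ContractSurf.topologicalKrullDim_eq, ← ha, ← h1,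
      ← ContractSurf.ringKrullDim_stalk_eq g (⟨{y}ᶜ, hy.isOpen_compl⟩ : Y.Opens) x hxU]
    exact le_iSup (fun z : Y => ringKrullDim (Y.presheaf.stalk z)) (g x)

/-- The contraction defined by sections of a module. -/
theorem contraction {X : Scheme.{u}} [IsIntegral X] (p : X ⟶ Spec (CommRingCat.of k)) [IsProper p]
    {d : ℕ} (hdim : topologicalKrullDim X = d) {E : Scheme.{u}} [Nonempty E] (ι : E ⟶ X) [IsClosedImmersion ι]
    (hE : IsField Γ(E, ⊤)) (hne : ∃ x, x ∉ Set.range ι) (M : X.Modules) (t : Coh.structureModule X ⟶ M)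
    (ht : Set.range ι ⊆ (CohB1.genLocus M t : Set X)) {J : Type u} [Finite J] (τ : J → (Coh.structureModule X ⟶ M))
    (ha : ∀ j, IsAffineOpen (CohB1.genLocus M (τ j)))
    (hd : ∀ j, Disjoint (CohB1.genLocus M (τ j) : Set X) (Set.range ι))
    (hc : ∀ x, x ∉ Set.range ι → ∃ j, x ∈ CohB1.genLocus M (τ j)) :
    ∃ (Y : Scheme.{u}) (q : Y ⟶ Spec (CommRingCat.of k)) (g : X ⟶ Y) (P : Y) (hP : IsClosed ({P} : Set Y)),
      g ≫ q = p ∧ IsIntegral Y ∧ topologicalKrullDim Y = d ∧
      (∃ (N : ℕ) (c : Y ⟶ CohB1.ProjSpace N k), IsClosedImmersion c ∧ c ≫ CohB1.ProjSpace.toSpec N k = q) ∧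
      (∀ x : X, g x = P ↔ x ∈ Set.range ι) ∧
      IsIso (g ∣_ (⟨({P} : Set Y)ᶜ, hP.isOpen_compl⟩ : Y.Opens)) := by
  obtain ⟨N, ⟨e⟩⟩ := Finite.exists_equiv_fin (Option J)
  obtain ⟨n, rfl⟩ : ∃ n, N = n + 1 := ⟨N - 1, by have := (e none).2; omega⟩
  let σ : Option J → (Coh.structureModule X ⟶ M) := fun o => o.elim t τ
  let s : Fin (n + 1) → (Coh.structureModule X ⟶ M) := fun i => σ (e.symm i)
  have hs : ⨆ i, CohB1.genLocus M (s i) = ⊤ := by
    rw [eq_top_iff]
    intro x _
    refine Opens.mem_iSup.2 ?_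
    by_cases hx : x ∈ Set.range ι
    · refine ⟨e none, ?_⟩
      change x ∈ CohB1.genLocus M (σ (e.symm (e none)))
      rw [e.symm_apply_apply]
      exact ht hx
    · obtain ⟨j, hj⟩ := hc x hx
      refine ⟨e (some j), ?_⟩
      change x ∈ CohB1.genLocus M (σ (e.symm (e (some j))))
      rw [e.symm_apply_apply]
      exact hj
  obtain ⟨φ, hφ, hk⟩ := VarietyA.ProjMor.exists_hom_projSpace p s hs
  have hprop : IsProper (φ ≫ CohB1.ProjSpace.toSpec n k) := by rw [hφ]; infer_instance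
  have hφp : IsProper φ := IsProper.of_comp φ (CohB1.ProjSpace.toSpec n k)
  have hNoeth : IsLocallyNoetherian (CohB1.ProjSpace n k) :=
    LocallyOfFiniteType.isLocallyNoetherian (CohB1.ProjSpace.toSpec n k)
  have hfin : IsFinite φ.fromNormalization := S1297.result φ
  let P : Fin (n + 1) → (CohB1.ProjSpace n k).Opens := fun i =>
    Proj.basicOpen (CohB1.polyGrading n k) (MvPolynomial.X i : MvPolynomial (Fin (n + 1)) k)
  have hPaff : ∀ i, IsAffineOpen (P i) := fun i =>
    Proj.isAffineOpen_basicOpen (CohB1.polyGrading n k) (m := 1) _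
      (MvPolynomial.isHomogeneous_X _ i) Nat.one_pos
  have hP1 : φ ⁻¹ᵁ (P (e none)) = CohB1.genLocus M t := by
    refine (hk (e none)).trans ?_
    change CohB1.genLocus M (σ (e.symm (e none))) = _
    rw [e.symm_apply_apply]
    rfl
  have hP2 : ∀ j, φ ⁻¹ᵁ (P (e (some j))) = CohB1.genLocus M (τ j) := by
    intro j
    refine (hk (e (some j))).trans ?_
    change CohB1.genLocus M (σ (e.symm (e (some j)))) = _
    rw [e.symm_apply_apply]
    rfl
  obtain ⟨y, hy, -, hr, hpre, hiso⟩ := ContractBasic.contraction φ ι (P (e none)) (hPaff _)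
    (by rw [hP1]; exact ht) hE (fun x hx => by
      obtain ⟨j, hj⟩ := hc x hx
      refine ⟨P (e (some j)), hPaff _, ?_, ?_, ?_⟩
      · change x ∈ φ ⁻¹ᵁ (P (e (some j)))
        rw [hP2]; exact hj
      · rw [hP2]; exact ha j
      · rw [hP2]; exact hd j)
  have hiff : ∀ x : X, φ.toNormalization x = y ↔ x ∈ Set.range ι := by
    intro x
    have h1 := Set.ext_iff.1 hpre x
    have h2 : φ.toNormalization x ∉ ({y} : Set φ.normalization) ↔ x ∉ Set.range ι := h1
    rw [Set.mem_singleton_iff, not_iff_not] at h2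
    exact h2
  have hf1 : φ.toNormalization ≫ φ.fromNormalization = φ := Scheme.Hom.toNormalization_fromNormalization φ
  have hfp : IsProper φ.toNormalization := by
    have : IsProper (φ.toNormalization ≫ φ.fromNormalization) := by rw [hf1]; exact hφp
    exact IsProper.of_comp _ φ.fromNormalization
  have hfsurj : Surjective φ.toNormalization := inferInstance
  have hYint : IsIntegral φ.normalization := inferInstance
  have hq : IsProper (φ.fromNormalization ≫ CohB1.ProjSpace.toSpec n k) := inferInstance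
  refine ⟨φ.normalization, φ.fromNormalization ≫ CohB1.ProjSpace.toSpec n k, φ.toNormalization, y, hy, ?_,
    hYint, ?_, ?_, hiff, hiso⟩
  · rw [← Category.assoc, hf1, hφ]
  · obtain ⟨x, hx⟩ := hne
    exact dim_contraction p φ.toNormalization φ.toNormalization.isClosedMap y hy hiso
      ⟨x, fun h => hx ((hiff x).1 h)⟩ hdim
  · exact CalgB.ProjField.exists_closedImmersion_projSpace _
      ⟨_, Flat2H.FamOpen.isAmple_pullback_of_isAffineHom φ.fromNormalization
        (VarietyA.AmpleField.isAmple_twistProjSpace n k)⟩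

end final

end K34.ContrRat
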